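import Groth.Agent.H02CA.PC.Gen
import Groth.Agent.H02CA.PC.Perf
import Groth.Prelude.Def_W4c5algebraiztannakaNis
import Mathlib.Algebra.Category.ModuleCat.Biproducts
import Mathlib.Algebra.Category.ModuleCat.Descent

/-!
# Complexes of projective modules of bounded size
-/

set_option autoImplicit false
set_option linter.style.haveILetI false

universe u

open CategoryTheory CategoryTheory.Limits HomologicalComplex Groth.Agent.H02CA

attribute [local instance] HasDerivedCategory.standard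

namespace Groth.Agent.H8Size

variable {R : Type u} [CommRing R]

/-- A projective module which is a quotient of the free module of rank `M`. -/
def Sz (M : ℕ) (X : ModuleCat.{u} R) : Prop :=
  Module.Projective R X ∧ ∃ g : (Fin M → R) →ₗ[R] X, Function.Surjective g

/-- A complex with terms of size at most `M` which vanishes outside `[a, b]`. -/
def Sized (P : DRing.Cx R) (a b : ℤ) (M : ℕ) : Prop :=
  DRing.VanishesOutside P a b ∧ ∀ i, Sz M (P.X i)

theorem Sz.of_iso {M : ℕ} {X Y : ModuleCat.{u} R} (h : Sz M X) (e : X ≅ Y) : Sz M Y := by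
  obtain ⟨hp, g, hg⟩ := h
  exact ⟨Module.Projective.of_equiv e.toLinearEquiv, e.toLinearEquiv.toLinearMap ∘ₗ g,
    e.toLinearEquiv.surjective.comp hg⟩

theorem Sz.of_isZero (M : ℕ) {X : ModuleCat.{u} R} (h : IsZero X) : Sz M X :=
  haveI := ModuleCat.subsingleton_of_isZero h
  ⟨inferInstance, 0, fun x => ⟨0, Subsingleton.elim _ _⟩⟩

theorem Sz.mono {M N : ℕ} {X : ModuleCat.{u} R} (h : Sz M X) (hMN : M ≤ N) : Sz N X :=
  ⟨h.1, h.2.choose ∘ₗ LinearMap.funLeft R R (Fin.castLE hMN),
    h.2.choose_spec.comp (LinearMap.funLeft_surjective_of_injective _ _ _ (Fin.castLE_injective hMN))⟩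

theorem Sz.biprod {M N : ℕ} {X Y : ModuleCat.{u} R} (hX : Sz M X) (hY : Sz N Y) :
    Sz (M + N) (X ⊞ Y) := by
  obtain ⟨hp, g, hg⟩ := hX
  obtain ⟨hq, k, hk⟩ := hY
  refine Sz.of_iso (X := ModuleCat.of R (X × Y)) ⟨inferInstanceAs (Module.Projective R (X × Y)),
    (LinearMap.prod (g ∘ₗ LinearMap.funLeft R R (Fin.castAdd N))
      (k ∘ₗ LinearMap.funLeft R R (Fin.natAdd M))), ?_⟩ (ModuleCat.biprodIsoProd X Y).symm
  rintro ⟨x, y⟩
  obtain ⟨a, rfl⟩ := hg x
  obtain ⟨b, rfl⟩ := hk y
  refine ⟨Fin.append a b, Prod.ext (congrArg g (funext fun i => ?_)) (congrArg k (funext fun i => ?_))⟩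
  · simp [LinearMap.funLeft_apply]
  · simp [LinearMap.funLeft_apply]

/-- The free module of rank `M`. -/
abbrev free (R : Type u) [CommRing R] (M : ℕ) : ModuleCat.{u} R := ModuleCat.of R (Fin M → R)

theorem sz_free (M : ℕ) : Sz M (free R M) :=
  ⟨inferInstanceAs (Module.Projective R (Fin M → R)), LinearMap.id, fun x => ⟨x, rfl⟩⟩

theorem Sz.projective {M : ℕ} {X : ModuleCat.{u} R} (h : Sz M X) : Projective X :=
  (IsProjective.iff_projective X).1 h.1

theorem Sized.mono {P : DRing.Cx R} {a b a' b' : ℤ} {M M' : ℕ} (h : Sized P a b M) (ha : a' ≤ a)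
    (hb : b ≤ b') (hM : M ≤ M') : Sized P a' b' M' :=
  ⟨fun i hi => h.1 i (by omega), fun i => (h.2 i).mono hM⟩

theorem Sized.isKProjective {P : DRing.Cx R} {a b : ℤ} {M : ℕ} (h : Sized P a b M) :
    P.IsKProjective := by
  haveI : P.IsStrictlyLE b := (CochainComplex.isStrictlyLE_iff P b).2 fun i hi => h.1 i (Or.inr hi)
  haveI : ∀ i, Projective (P.X i) := fun i => (h.2 i).projective
  exact CochainComplex.isKProjective_of_projective P b

theorem exists_chainMap {P Q : DRing.Cx R} {a b : ℤ} {M : ℕ} (h : Sized P a b M)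
    (α : DRing.toD P ⟶ DRing.toD Q) : ∃ f : P ⟶ Q, DerivedCategory.Q.map f = α := by
  haveI := h.isKProjective
  let e := DerivedCategory.quotientCompQhIso (ModuleCat.{u} R)
  obtain ⟨g, hg⟩ := (CochainComplex.IsKProjective.Qh_map_bijective P
    ((HomotopyCategory.quotient _ _).obj Q)).2 (e.hom.app P ≫ α ≫ e.inv.app Q)
  obtain ⟨f, rfl⟩ := (HomotopyCategory.quotient _ _).map_surjective g
  refine ⟨f, ?_⟩
  rw [← cancel_epi (e.hom.app P)]
  exact ((e.hom.naturality f).symm.trans (by rw [Functor.comp_map, hg]; simp))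

theorem Sz.of_single {M : ℕ} {X : ModuleCat.{u} R} (h : Sz M X) (t : ℤ) :
    Sized ((single _ (ComplexShape.up ℤ) t).obj X) t t M := by
  refine ⟨fun i hi => isZero_single_obj_X _ _ _ _ (by omega), fun i => ?_⟩
  by_cases hi : i = t
  · subst hi; exact h.of_iso (singleObjXSelf (ComplexShape.up ℤ) i X).symm
  · exact Sz.of_isZero M (isZero_single_obj_X _ _ _ _ hi)

/-- Cohomology of a complex with top degree `t`. -/
theorem exists_surjective_homology_top {P : DRing.Cx R} {a t : ℤ} {M : ℕ} (h : Sized P a t M) :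
    ∃ g : (Fin M → R) →ₗ[R] P.homology t, Function.Surjective g := by
  obtain ⟨g, hg⟩ := (h.2 t).2
  haveI : IsIso (P.iCycles t) :=
    P.isIso_iCycles t (t + 1) (by simp) ((h.1 (t + 1) (Or.inr (by omega))).eq_of_tgt _ _)
  let q : P.X t ⟶ P.homology t := inv (P.iCycles t) ≫ P.homologyπ t
  exact ⟨q.hom ∘ₗ g, ((ModuleCat.epi_iff_surjective q).1 inferInstance).comp hg⟩

/-- Cohomology of a one-term complex. -/
theorem sz_homology_single {P : DRing.Cx R} {t : ℤ} {M : ℕ} (h : Sized P t t M) :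
    Sz M (P.homology t) := by
  refine (h.2 t).of_iso (ShortComplex.HomologyData.ofZeros (P.sc t) ?_ ?_).left.homologyIso.symm
  · exact (h.1 _ (Or.inl (by simp))).eq_of_src _ _
  · exact (h.1 _ (Or.inr (by simp))).eq_of_tgt _ _

/-- A chain map from a module in degree `t` which is surjective on cohomology. -/
theorem exists_single_epi {X : ModuleCat.{u} R} (hX : Projective X) (t : ℤ) (K : DRing.Cx R)
    (π : X ⟶ K.homology t) [Epi π] :
    ∃ g : (single _ (ComplexShape.up ℤ) t).obj X ⟶ K, Epi (homologyMap g t) := by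
  haveI := hX
  let l : X ⟶ K.cycles t := Projective.factorThru π (K.homologyπ t)
  refine ⟨mkHomFromSingle (l ≫ K.iCycles t) (fun k hk => by simp), ?_⟩
  have h₁ : (singleObjCyclesSelfIso (ComplexShape.up ℤ) t X).inv ≫
      cyclesMap (mkHomFromSingle (l ≫ K.iCycles t) (fun k hk => by simp)) t = l := by
    rw [← cancel_mono (K.iCycles t)]
    simp
  have h₂ : Epi ((singleObjCyclesSelfIso (ComplexShape.up ℤ) t X).inv ≫
      ((single _ (ComplexShape.up ℤ) t).obj X).homologyπ t ≫
      homologyMap (mkHomFromSingle (l ≫ K.iCycles t) (fun k hk => by simp)) t) := by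
    rw [homologyπ_naturality, reassoc_of% h₁, Projective.factorThru_comp]
    infer_instance
  rw [← Category.assoc] at h₂
  haveI := h₂
  exact epi_of_epi ((singleObjCyclesSelfIso (ComplexShape.up ℤ) t X).inv ≫
    ((single _ (ComplexShape.up ℤ) t).obj X).homologyπ t) _

/-- The kernel of a surjection onto a projective module keeps the size. -/
theorem sz_ker {M : ℕ} {X Y : ModuleCat.{u} R} (hX : Sz M X) (hY : Module.Projective R Y) (f : X ⟶ Y)
    (hf : Function.Surjective f.hom) : Sz M (ModuleCat.of R (LinearMap.ker f.hom)) := by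
  obtain ⟨hp, g, hg⟩ := hX
  obtain ⟨s, hs⟩ := Module.projective_lifting_property f.hom LinearMap.id hf
  let r : X →ₗ[R] LinearMap.ker f.hom := (LinearMap.id - s ∘ₗ f.hom).codRestrict _ fun x =>
    LinearMap.mem_ker.2 (by
      show f.hom (x - s (f.hom x)) = 0
      rw [map_sub, ← LinearMap.comp_apply f.hom s, hs, LinearMap.id_apply, sub_self])
  have hr : r ∘ₗ (LinearMap.ker f.hom).subtype = LinearMap.id := LinearMap.ext fun z => Subtype.ext (by
    show (z : X) - s (f.hom z) = z
    rw [LinearMap.mem_ker.1 z.2, map_zero, sub_zero])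
  refine ⟨Module.Projective.of_split _ r hr, r ∘ₗ g, ?_⟩
  have hrs : Function.Surjective r := fun z => ⟨(z : X), LinearMap.congr_fun hr z⟩
  exact hrs.comp hg

/-- Removing the top term of a complex whose top cohomology vanishes. -/
theorem exists_sized_truncate {C : DRing.Cx R} {a t : ℤ} {M : ℕ} (h : Sized C a t M) (ha : a ≤ t - 1)
    (hz : IsZero (C.homology t)) :
    ∃ C' : DRing.Cx R, Sized C' a (t - 1) M ∧ Nonempty (DRing.toD C' ≅ DRing.toD C) := by
  obtain ⟨b, rfl⟩ : ∃ b, t = b + 1 := ⟨t - 1, (sub_add_cancel t 1).symm⟩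
  rw [add_sub_cancel_right] at ha ⊢
  refine ⟨C.truncLE b, ⟨fun i hi => ?_, fun i => ?_⟩, ?_⟩
  · rcases hi with hi | hi
    · exact (h.1 i (Or.inl hi)).of_iso (C.truncLEXIso b i (by omega))
    · exact (C.truncLE b).isZero_of_isStrictlyLE b i hi
  · rcases lt_trichotomy i b with hi | rfl | hi
    · exact (h.2 i).of_iso (C.truncLEXIso b i hi).symm
    · have hex : (C.sc' i (i + 1) (i + 1 + 1)).Exact :=
        (exactAt_iff' C i (i + 1) (i + 1 + 1) (by simp) (by simp)).1
          ((exactAt_iff_isZero_homology C _).2 hz)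
      haveI : Epi (C.d i (i + 1)) :=
        hex.epi_f ((h.1 _ (Or.inr (by omega))).eq_of_tgt _ _)
      exact (sz_ker (h.2 i) (h.2 (i + 1)).1 (C.d i (i + 1))
        ((ModuleCat.epi_iff_surjective _).1 inferInstance)).of_iso
        (C.truncLEXIsoCycles i ≪≫ IsLimit.conePointUniqueUpToIso (C.cyclesIsKernel i (i + 1) (by simp))
          (ModuleCat.kernelIsLimit (C.d i (i + 1)))).symm
    · exact Sz.of_isZero M ((C.truncLE b).isZero_of_isStrictlyLE b i hi)
  · haveI : C.IsLE b := (CochainComplex.isLE_iff C b).2 fun i hi => by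
      rw [exactAt_iff_isZero_homology]
      rcases (show b + 1 = i ∨ b + 1 < i by omega) with rfl | hi'
      · exact hz
      · exact PC.isZero_homology_of_isZero C i (h.1 i (Or.inr hi'))
    exact ⟨asIso (DerivedCategory.Q.map (C.ιTruncLE b))⟩

theorem Sized.cone {P S : DRing.Cx R} (q : S ⟶ P) {a b a' b' : ℤ} {M N : ℕ}
    (hS : Sized S a' b' N) (hP : Sized P a b M) (c d : ℤ) (hc : c ≤ a) (hc' : c ≤ a' - 1) (hd : b ≤ d)
    (hd' : b' - 1 ≤ d) : Sized (CochainComplex.mappingCone q) c d (N + M) :=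
  ⟨fun j hj => PC.isZero_cone q j (hS.1 _ (by omega)) (hP.1 _ (by omega)), fun j =>
    ((hS.2 (j + 1)).biprod (hP.2 j)).of_iso (homotopyCofiber.XIsoBiprod q j (j + 1) rfl).symm⟩

theorem Sized.shift {P : DRing.Cx R} {a b : ℤ} {M : ℕ} (h : Sized P a b M) (n : ℤ) (a' b' : ℤ)
    (ha : a' + n = a) (hb : b' + n = b) : Sized (P⟦n⟧) a' b' M :=
  ⟨fun i hi => (h.1 (i + n) (by omega)).of_iso (P.shiftFunctorObjXIso n i (i + n) rfl),
    fun i => (h.2 (i + n)).of_iso (P.shiftFunctorObjXIso n i (i + n) rfl).symm⟩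

end Groth.Agent.H8Size
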