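import Groth.Agent.H8Size.Gen
import Groth.Agent.H8Size.Sized
import Groth.Agent.H1CAlg.ProjDescent

/-!
# A uniform bound: locally bounded size implies globally bounded size
-/

set_option autoImplicit false
set_option linter.style.haveILetI false

universe u

open CategoryTheory CategoryTheory.Limits HomologicalComplex Pretriangulated Groth.Agent.H02CA
open scoped TensorProduct

attribute [local instance] HasDerivedCategory.standard

open W4c5algebraiztannaka (bcCx)

namespace Groth.Agent.H8Size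

section Flat

variable {R B : Type u} [CommRing R] [CommRing B] (φ : R →+* B)
  [PreservesFiniteLimits (ModuleCat.extendScalars.{u, u, u} φ)]

/-- Cohomology commutes with flat base change. -/
noncomputable def bcHIso (K : DRing.Cx R) (i : ℤ) :
    ((bcCx φ).obj K).homology i ≅ (ModuleCat.extendScalars.{u, u, u} φ).obj (K.homology i) :=
  ShortComplex.mapHomologyIso (K.sc i) (ModuleCat.extendScalars.{u, u, u} φ)

end Flat

variable {R B : Type u} [CommRing R] [CommRing B] (φ : R →+* B)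

theorem isZero_of_extend (hφ : φ.FaithfullyFlat) (M : ModuleCat.{u} R)
    (h : IsZero ((ModuleCat.extendScalars.{u, u, u} φ).obj M)) : IsZero M := by
  letI := φ.toAlgebra
  haveI : Module.FaithfullyFlat R B := hφ
  haveI : Subsingleton (B ⊗[R] M) := ModuleCat.subsingleton_of_isZero h
  haveI : Subsingleton M := (Module.FaithfullyFlat.subsingleton_tensorProduct_iff_right R B).1 ‹_›
  exact ModuleCat.isZero_of_subsingleton M

theorem projective_of_extend (hφ : φ.FaithfullyFlat) (M : ModuleCat.{u} R)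
    (h : Module.Projective B ((ModuleCat.extendScalars.{u, u, u} φ).obj M)) : Module.Projective R M := by
  letI := φ.toAlgebra
  haveI : Module.FaithfullyFlat R B := hφ
  haveI : Module.Projective B (B ⊗[R] M) := h
  exact H1CAlg.projective_of_baseChange R B M

theorem sized_bc {P : DRing.Cx R} {a b : ℤ} {M : ℕ} (h : Sized P a b M) :
    Sized ((bcCx φ).obj P) a b M := by
  refine ⟨fun i hi => (ModuleCat.extendScalars.{u, u, u} φ).map_isZero (h.1 i hi), fun i => ?_⟩
  letI := φ.toAlgebra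
  obtain ⟨hp, g, hg⟩ := h.2 i
  haveI := hp
  refine ⟨inferInstanceAs (Module.Projective B (B ⊗[R] P.X i)),
    (g.baseChange B) ∘ₗ (TensorProduct.piScalarRight R B B (Fin M)).symm.toLinearMap, ?_⟩
  exact (LinearMap.lTensor_surjective B hg).comp (TensorProduct.piScalarRight R B B (Fin M)).symm.surjective

theorem isZero_bc_homology {E : DRing.Cx R} {Q : DRing.Cx B} (a : DRing.toD Q ≅ DRing.toD ((bcCx φ).obj E))
    (i : ℤ) (h : IsZero (Q.homology i)) : IsZero (((bcCx φ).obj E).homology i) :=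
  (PC.isZero_H_iff _ i).1 (((PC.H _ i).mapIso a).isZero_iff.1 ((PC.isZero_H_iff Q i).2 h))

/-- Homology of isomorphic objects of the derived category. -/
noncomputable def homIso {C : Type*} [Category* C] [Abelian C] [HasDerivedCategory C]
    {P Q : CochainComplex C ℤ} (a : DerivedCategory.Q.obj P ≅ DerivedCategory.Q.obj Q) (i : ℤ) :
    P.homology i ≅ Q.homology i :=
  (PC.hIso P i).symm ≪≫ (PC.H C i).mapIso a ≪≫ PC.hIso Q i

theorem key {G : ℕ → ℕ} : ∀ n : ℕ, ∃ F : ℕ → ℕ,
    ∀ {R B : Type u} [CommRing R] [CommRing B] (φ : R →+* B), φ.FaithfullyFlat → GenBound φ G →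
      ∀ (t : ℤ) (M : ℕ) (E : DRing.Cx R),
        (∃ P : DRing.Cx B, Sized P (t - n) t M ∧ Nonempty (DRing.toD P ≅ DRing.toD ((bcCx φ).obj E))) →
        ∃ Q : DRing.Cx R, Sized Q (t - n) t (F M) ∧ Nonempty (DRing.toD Q ≅ DRing.toD E) := by
  intro n
  induction n with
  | zero =>
    refine ⟨G, fun {R B} _ _ φ hφ hG t M E hE => ?_⟩
    obtain ⟨P, hP, ⟨a⟩⟩ := hE
    simp only [Nat.cast_zero, sub_zero] at hP ⊢
    haveI : PreservesFiniteLimits (ModuleCat.extendScalars.{u, u, u} φ) :=
      ModuleCat.preservesFiniteLimits_extendScalars_of_flat hφ.flat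
    have hz : ∀ i, i ≠ t → IsZero (E.homology i) := fun i hi => isZero_of_extend φ hφ _
      ((isZero_bc_homology φ a i (PC.isZero_homology_of_isZero P i (hP.1 i (by omega)))).of_iso
        (bcHIso φ E i).symm)
    obtain ⟨hp, g, hg⟩ := (sz_homology_single hP).of_iso (homIso a t ≪≫ bcHIso φ E t)
    have hH : Sz (G M) (E.homology t) := ⟨projective_of_extend φ hφ _ hp, hG _ M ⟨g, hg⟩⟩
    haveI : (DRing.toD E).IsGE t := (DerivedCategory.isGE_iff _ t).2 fun i hi =>
      (PC.isZero_H_iff E i).2 (hz i (by omega))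
    haveI : (DRing.toD E).IsLE t := (DerivedCategory.isLE_iff _ t).2 fun i hi =>
      (PC.isZero_H_iff E i).2 (hz i (by omega))
    obtain ⟨X, ⟨e⟩⟩ := DerivedCategory.exists_iso_singleFunctor_obj_of_isGE_of_isLE (DRing.toD E) t
    have hX : Sz (G M) X := hH.of_iso ((PC.hIso E t).symm ≪≫ (PC.H _ t).mapIso e ≪≫ PC.hSingle t X)
    exact ⟨_, hX.of_single t, ⟨(PC.singleQ t X).symm ≪≫ e.symm⟩⟩
  | succ n ih =>
    obtain ⟨F, hF⟩ := ih
    refine ⟨fun M => F (G M + M) + G M, fun {R B} _ _ φ hφ hG t M E hE => ?_⟩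
    obtain ⟨P, hP, ⟨a⟩⟩ := hE
    haveI : PreservesFiniteLimits (ModuleCat.extendScalars.{u, u, u} φ) :=
      ModuleCat.preservesFiniteLimits_extendScalars_of_flat hφ.flat
    have hz : ∀ i, t < i → IsZero (E.homology i) := fun i hi => isZero_of_extend φ hφ _
      ((isZero_bc_homology φ a i (PC.isZero_homology_of_isZero P i (hP.1 i (Or.inr hi)))).of_iso
        (bcHIso φ E i).symm)
    obtain ⟨g, hg⟩ := exists_surjective_homology_top hP
    obtain ⟨u, hu⟩ := hG (E.homology t) M
      ⟨(homIso a t ≪≫ bcHIso φ E t).toLinearEquiv.toLinearMap ∘ₗ g,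
        (homIso a t ≪≫ bcHIso φ E t).toLinearEquiv.surjective.comp hg⟩
    let π : free R (G M) ⟶ E.homology t := ModuleCat.ofHom u
    haveI : Epi π := (ModuleCat.epi_iff_surjective π).2 hu
    obtain ⟨q, hq⟩ := exists_single_epi (sz_free (R := R) (G M)).projective t E π
    have hS := (sz_free (R := R) (G M)).of_single t
    -- the cone over `R`
    have hE'z : ∀ i, t ≤ i → IsZero ((CochainComplex.mappingCone q).homology i) :=
      (PC.dge_Q_iff q t).1 (PC.dge_Q_single _ t q hq hz)
    -- the cone over `B`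
    obtain ⟨q', hq'⟩ := exists_chainMap (sized_bc φ hS) (DerivedCategory.Q.map ((bcCx φ).map q) ≫ a.inv)
    let c : DRing.toD (CochainComplex.mappingCone q') ≅
        DRing.toD ((bcCx φ).obj (CochainComplex.mappingCone q)) :=
      Triangle.π₃.mapIso (isoTriangleOfIso₁₂ _ _
        (DerivedCategory.mappingCone_triangle_distinguished q')
        (DerivedCategory.mappingCone_triangle_distinguished ((bcCx φ).map q)) (Iso.refl _) a
        (by
          show DerivedCategory.Q.map q' ≫ a.hom = 𝟙 _ ≫ DerivedCategory.Q.map ((bcCx φ).map q)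
          rw [hq']; simp)) ≪≫
        DerivedCategory.Q.mapIso
          (CochainComplex.mappingCone.mapHomologicalComplexIso q (ModuleCat.extendScalars.{u, u, u} φ)).symm
    have hC : Sized (CochainComplex.mappingCone q') (t - (n + 1 : ℕ)) t (G M + M) :=
      Sized.cone q' (sized_bc φ hS) hP _ _ le_rfl (by omega) le_rfl (by omega)
    obtain ⟨P₂, hP₂, ⟨e₂⟩⟩ := exists_sized_truncate hC (by omega)
      (((ModuleCat.extendScalars.{u, u, u} φ).map_isZero (hE'z t le_rfl)).of_iso
        (homIso c t ≪≫ bcHIso φ _ t))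
    obtain ⟨Q₁, hQ₁, ⟨e₁⟩⟩ := hF φ hφ hG (t - 1) (G M + M) (CochainComplex.mappingCone q)
      ⟨P₂, hP₂.mono (by omega) le_rfl le_rfl, ⟨e₂ ≪≫ c⟩⟩
    -- reattach the free module
    let S := (single (ModuleCat.{u} R) (ComplexShape.up ℤ) t).obj (free R (G M))
    let δ : DRing.toD (CochainComplex.mappingCone q) ⟶ (DRing.toD S)⟦(1 : ℤ)⟧ :=
      (DerivedCategory.Q.mapTriangle.obj (CochainComplex.mappingCone.triangle q)).mor₃
    let s := (DerivedCategory.Q.commShiftIso (1 : ℤ)).app S
    obtain ⟨r, hr⟩ := exists_chainMap hQ₁ (Q := S⟦(1 : ℤ)⟧) (e₁.hom ≫ δ ≫ s.inv)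
    have hT := rot_of_distTriang _ (rot_of_distTriang _
      (DerivedCategory.mappingCone_triangle_distinguished q))
    let d : DRing.toD (CochainComplex.mappingCone r) ≅ (DRing.toD E)⟦(1 : ℤ)⟧ :=
      Triangle.π₃.mapIso (isoTriangleOfIso₁₂ _ _
        (DerivedCategory.mappingCone_triangle_distinguished r) hT e₁ s (by
          show DerivedCategory.Q.map r ≫ s.hom = e₁.hom ≫ δ
          rw [hr]; simp))
    refine ⟨(CochainComplex.mappingCone r)⟦(-1 : ℤ)⟧, ?_,
      ⟨(DerivedCategory.Q.commShiftIso (-1 : ℤ)).app _ ≪≫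
        (shiftFunctor _ (-1 : ℤ)).mapIso d ≪≫ shiftShiftNeg (DRing.toD E) (1 : ℤ)⟩⟩
    have hS1 : Sized (S⟦(1 : ℤ)⟧) (t - 1) (t - 1) (G M) := hS.shift 1 _ _ (by omega) (by omega)
    have hCr : Sized (CochainComplex.mappingCone r) (t - 1 - (n : ℤ) - 1) (t - 1) (F (G M + M) + G M) :=
      Sized.cone r hQ₁ hS1 _ _ (by omega) (by omega) le_rfl (by omega)
    exact hCr.shift (-1) _ _ (by omega) (by omega)

/-- Locally bounded size implies globally bounded size, uniformly. -/
theorem exists_uniform_bound :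
    ∃ F : ℕ → ℕ, ∀ (R : Type u) [CommRing R] (E : DRing.Cx R) (N : ℕ),
      W4c5algebraiztannaka.LocSize E N → W4c5algebraiztannaka.GlobSize R (DRing.toD E) (F N) := by
  choose F hF using fun N : ℕ => key.{u} (G := fun M => M * N) (2 * N)
  refine ⟨fun N => max N (F N N), fun R _ E N hE => ?_⟩
  obtain ⟨B, _, φ, hφ, P, hP, ⟨e⟩⟩ := hE
  have hP' : Sized P ((N : ℤ) - (2 * N : ℕ)) N N :=
    Sized.mono (show Sized P (-(N : ℤ)) N N from hP) (by push_cast; omega) le_rfl le_rfl
  obtain ⟨Q, hQ, heQ⟩ := hF N φ (faithfullyFlat_of_isNisCoverLen φ hφ) (genBound_of_isNisCoverLen φ hφ)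
    N N E ⟨P, hP', ⟨e⟩⟩
  exact ⟨Q, Sized.mono hQ (by push_cast; omega) (by push_cast; omega) (le_max_right N (F N N)), heQ⟩

end Groth.Agent.H8Size
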