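import Groth.Agent.H24Algz.NisGenerators
import Mathlib.RingTheory.Finiteness.Descent
import Mathlib.RingTheory.RingHom.FaithfullyFlat

/-!
# Affine Nisnevich covers: faithful flatness and generators of modules
-/

set_option autoImplicit false
set_option linter.style.haveILetI false

universe u

open CategoryTheory AlgebraicGeometry TensorProduct W4c5algebraiztannaka

namespace Groth.Agent.H8Size

variable {R B : Type u} [CommRing R] [CommRing B]

/-- The ring map of an affine Nisnevich cover of bounded length is faithfully flat. -/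
theorem faithfullyFlat_of_isNisCoverLen (φ : R →+* B) {m : ℕ}
    (h : IsNisCoverLen (Spec.map (CommRingCat.ofHom φ)) m) : φ.FaithfullyFlat := by
  obtain ⟨he, Z, hZ0, hZm, -, -, hZs⟩ := h
  haveI := he
  have hflat : Flat (Spec.map (CommRingCat.ofHom φ)) := inferInstance
  rw [HasRingHomProperty.Spec_iff (P := @Flat)] at hflat
  rw [RingHom.FaithfullyFlat.iff_flat_and_comap_surjective]
  refine ⟨hflat, fun x => ?_⟩
  have key : ∀ k : Fin (m + 1), ∀ y ∈ Z k, y ∈ Set.range (PrimeSpectrum.comap φ) := by
    intro k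
    induction k using Fin.induction with
    | zero => simp [hZ0]
    | succ k ih =>
      intro y hy
      by_cases hy' : y ∈ Z k.castSucc
      · exact ih y hy'
      obtain ⟨T, g, s, -, hrange, hs⟩ := hZs k
      obtain ⟨p, hp⟩ := hrange.ge ⟨hy, hy'⟩
      refine ⟨s p, ?_⟩
      rw [← hp, ← hs]
      rfl
  exact key (Fin.last m) x (hZm ▸ Set.mem_univ _)

/-- Generators modulo an ideal over which there is a section. -/
theorem exists_lift_mod [Algebra R B] {H : Type u} [AddCommGroup H] [Module R H] {N : ℕ}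
    (σ : Fin N → B ⊗[R] H) (hσ : Submodule.span B (Set.range σ) = ⊤)
    (J : Ideal R) (ψ : B →ₐ[R] R ⧸ J) :
    ∃ n : Fin N → H, (⊤ : Submodule R H) ≤ Submodule.span R (Set.range n) ⊔ J • ⊤ := by
  let f : B ⊗[R] H →ₗ[R] (R ⧸ J) ⊗[R] H := ψ.toLinearMap.rTensor H
  have hf : Function.Surjective f :=
    LinearMap.rTensor_surjective H fun z => by
      obtain ⟨r, rfl⟩ := Ideal.Quotient.mk_surjective z
      exact ⟨algebraMap R B r, ψ.commutes r⟩
  have hfs : ∀ (b : B) (x : B ⊗[R] H), f (b • x) = ψ b • f x := by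
    intro b x
    induction x using TensorProduct.induction_on with
    | zero => simp
    | add x y hx hy => simp only [smul_add, map_add, hx, hy]
    | tmul c h => simp [f, TensorProduct.smul_tmul']
  have h1 : Submodule.span (R ⧸ J) (Set.range (f ∘ σ)) = ⊤ := by
    rw [Submodule.eq_top_iff']
    intro z
    obtain ⟨x, rfl⟩ := hf z
    have hx : x ∈ Submodule.span B (Set.range σ) := hσ ▸ Submodule.mem_top
    induction hx using Submodule.span_induction with
    | mem y hy =>
      obtain ⟨j, rfl⟩ := hy
      exact Submodule.subset_span ⟨j, rfl⟩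
    | zero => simp
    | add y y' _ _ h h' => rw [map_add]; exact add_mem h h'
    | smul b y _ h => rw [hfs]; exact Submodule.smul_mem _ _ h
  have hR : Submodule.span R (Set.range (f ∘ σ)) = ⊤ := by
    rw [← Submodule.restrictScalars_span R (R ⧸ J) Ideal.Quotient.mk_surjective, h1,
      Submodule.restrictScalars_top]
  let q := TensorProduct.quotTensorEquivQuotSMul H J
  choose n hn using fun j => Submodule.mkQ_surjective (J • ⊤ : Submodule R H) (q (f (σ j)))
  refine ⟨n, fun x _ => ?_⟩
  have h2 : Submodule.map (J • ⊤ : Submodule R H).mkQ (Submodule.span R (Set.range n)) = ⊤ := by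
    rw [Submodule.map_span, ← Set.range_comp,
      show (J • ⊤ : Submodule R H).mkQ ∘ n = q.toLinearMap ∘ (f ∘ σ) from funext hn, Set.range_comp,
      ← Submodule.map_span, hR, Submodule.map_top, LinearEquiv.range]
  obtain ⟨y, hy, hxy⟩ := h2.ge (Submodule.mem_top (x := (J • ⊤ : Submodule R H).mkQ x))
  refine Submodule.mem_sup.mpr ⟨y, hy, x - y, ?_, add_sub_cancel _ _⟩
  rw [← Submodule.Quotient.eq]
  exact hxy.symm

/-- Generators of a module from generators after an affine Nisnevich cover. -/
theorem exists_generators [Algebra R B] (H : Type u) [AddCommGroup H] [Module R H] [Module.Finite R H]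
    {m N : ℕ} (hf : IsNisCoverLen (Spec.map (CommRingCat.ofHom (algebraMap R B))) m)
    (σ : Fin N → B ⊗[R] H) (hσ : Submodule.span B (Set.range σ) = ⊤) :
    ∃ g : (Fin (N * m) → R) →ₗ[R] H, Function.Surjective g := by
  classical
  obtain ⟨-, Z, hZ0, hZm, -, hZc, hZs⟩ := hf
  have key : ∀ k : Fin (m + 1), ∃ (t : Fin (N * (k : ℕ)) → H) (O : Set (PrimeSpectrum R)), IsOpen O ∧
      Z k ⊆ O ∧ ∀ p ∈ O, ∃ r : R, r ∉ p.asIdeal ∧ ∀ x : H, r • x ∈ Submodule.span R (Set.range t) := by
    intro k
    induction k using Fin.induction with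
    | zero => exact ⟨fun _ => 0, ∅, isOpen_empty, hZ0.le, fun p hp => absurd hp (Set.notMem_empty p)⟩
    | succ k ih =>
      obtain ⟨t, O, hO, hsub, hp⟩ := ih
      obtain ⟨T, g, s, hg, hrange, hs⟩ := hZs k
      haveI := hg
      let C : Set (PrimeSpectrum R) := Z k.succ \ O
      have hC : IsClosed C := (hZc k.succ).1.sdiff hO
      have hCsub : C ⊆ Set.range g := hrange ▸ Set.sdiff_subset_sdiff_right hsub
      obtain ⟨J, w, hJ, hw⟩ :=
        H24Algz.exists_ideal_lift (R := CommRingCat.of R) _ g s hs C hC hCsub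
      have hψ : CommRingCat.ofHom (algebraMap R B) ≫ Spec.preimage w =
          CommRingCat.ofHom (Ideal.Quotient.mk J) := by
        apply Spec.map_injective
        rw [Spec.map_comp, Spec.map_preimage]
        exact hw
      let ψ : B →ₐ[R] R ⧸ J :=
        { (Spec.preimage w).hom with commutes' := fun r => congr($(hψ).hom r) }
      obtain ⟨n, hn⟩ := exists_lift_mod σ hσ J ψ
      let S : Submodule R H := Submodule.span R (Set.range n)
      obtain ⟨r, hr, hr0⟩ := Submodule.exists_sub_one_mem_and_smul_eq_zero_of_fg_of_le_smul J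
        (⊤ : Submodule R (H ⧸ S)) Module.Finite.fg_top (by
          have h := Submodule.map_mono (f := S.mkQ) hn
          rw [Submodule.map_sup, Submodule.map_smul'', Submodule.mkQ_map_self, bot_sup_eq, Submodule.map_top,
            Submodule.range_mkQ] at h
          exact h)
      have hrS : ∀ x : H, r • x ∈ S := fun x =>
        (Submodule.Quotient.mk_eq_zero S).mp ((Submodule.Quotient.mk_smul S r x).trans (hr0 _ Submodule.mem_top))
      let t' : Fin (N * (k.succ : ℕ)) → H :=
        fun i => Fin.append t n (Fin.cast (by simp [Nat.mul_succ]) i)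
      have ht1 : ∀ j, t j ∈ Set.range t' := fun j =>
        ⟨Fin.cast (by simp [Nat.mul_succ]) (Fin.castAdd N j), by simp [t']⟩
      have ht2 : ∀ j, n j ∈ Set.range t' := fun j =>
        ⟨Fin.cast (by simp [Nat.mul_succ]) (Fin.natAdd (N * (k : ℕ)) j), by simp [t']⟩
      refine ⟨t', O ∪ {p | r ∉ p.asIdeal}, hO.union (PrimeSpectrum.basicOpen r).isOpen, ?_, ?_⟩
      · intro p hpZ
        by_cases hpO : p ∈ O
        · exact Or.inl hpO
        · refine Or.inr fun hrp => ?_
          have hJp : J ≤ p.asIdeal := (hJ.ge ⟨hpZ, hpO⟩ : p ∈ PrimeSpectrum.zeroLocus (J : Set R))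
          exact p.isPrime.ne_top ((Ideal.eq_top_iff_one _).mpr (by
            simpa using sub_mem hrp (hJp hr)))
      · rintro p (hpO | hpr)
        · obtain ⟨a, ha, hax⟩ := hp p hpO
          exact ⟨a, ha, fun x => Submodule.span_mono (Set.range_subset_iff.2 ht1) (hax x)⟩
        · exact ⟨r, hpr, fun x => Submodule.span_mono (Set.range_subset_iff.2 ht2) (hrS x)⟩
  obtain ⟨t, O, -, hsub, hp⟩ := key (Fin.last m)
  refine ⟨Fintype.linearCombination R t, ?_⟩
  rw [← LinearMap.range_eq_top, Fintype.range_linearCombination]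
  by_contra hne
  let A : Ideal R := (Submodule.span R (Set.range t)).colon (⊤ : Submodule R H)
  have hA : A ≠ ⊤ := fun h => hne (eq_top_iff.mpr fun x _ => by
    have h1 := (Submodule.mem_colon.mp ((Ideal.eq_top_iff_one A).mp h)) x Submodule.mem_top
    rwa [one_smul] at h1)
  obtain ⟨P, hP, hle⟩ := Ideal.exists_le_maximal _ hA
  obtain ⟨r, hr, hrx⟩ := hp ⟨P, hP.isPrime⟩ (hsub (hZm ▸ Set.mem_univ _))
  exact hr (hle (Submodule.mem_colon.mpr fun x _ => hrx x))

/-- The property of a ring map used for the bounds: modules which become finite after base change are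
generated by boundedly many elements. -/
def GenBound (φ : R →+* B) (G : ℕ → ℕ) : Prop :=
  ∀ (H : ModuleCat.{u} R) (M : ℕ),
    (∃ g : (Fin M → B) →ₗ[B] (ModuleCat.extendScalars.{u, u, u} φ).obj H, Function.Surjective g) →
    ∃ g : (Fin (G M) → R) →ₗ[R] H, Function.Surjective g

theorem genBound_of_isNisCoverLen (φ : R →+* B) {m : ℕ}
    (h : IsNisCoverLen (Spec.map (CommRingCat.ofHom φ)) m) : GenBound φ fun M => M * m := by
  intro H M ⟨g, hg⟩
  letI := φ.toAlgebra
  haveI : Module.FaithfullyFlat R B := faithfullyFlat_of_isNisCoverLen φ h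
  haveI : Module.Finite B (B ⊗[R] H) :=
    Module.Finite.of_surjective (R := B) (M := Fin M → B) (P := B ⊗[R] H) g hg
  haveI : Module.Finite R H := Module.Finite.of_finite_tensorProduct_of_faithfullyFlat B
  let g' : (Fin M → B) →ₗ[B] B ⊗[R] H := g
  refine exists_generators (B := B) H h (fun j => g' (Pi.single j 1)) (eq_top_iff.mpr fun z _ => ?_)
  obtain ⟨v, rfl⟩ := (show Function.Surjective g' from hg) z
  rw [show g' v = ∑ j, v j • g' (Pi.single j 1) by
    conv_lhs => rw [pi_eq_sum_univ' v]
    rw [map_sum]; simp_rw [map_smul]]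
  exact Submodule.sum_mem _ fun j _ => Submodule.smul_mem _ _ (Submodule.subset_span ⟨j, rfl⟩)

end Groth.Agent.H8Size
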